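import Mathlib
import Groth.Agent.FlatModB.Basic
import Groth.Agent.InjFibre.Stalk
import Groth.Agent.KFlat.Pullback
import Groth.Agent.FibCrit.Scheme

/-!
# Flatness over the base after base change
-/

universe u

set_option autoImplicit false
set_option linter.style.haveILetI false
set_option backward.isDefEq.respectTransparency false

open CategoryTheory CategoryTheory.Limits AlgebraicGeometry TopologicalSpace TensorProduct

namespace Groth.Agent.FlatModBC

/-- A localisation of a base change of a relatively flat module is flat over the new base. -/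
theorem flat_tensor_localization {A B C B' L : Type u} [CommRing A] [CommRing B] [CommRing C] [CommRing B']
    [CommRing L] [Algebra A B] [Algebra A C] [Algebra B B'] [Algebra C B'] [Algebra A B'] [IsScalarTower A B B']
    [IsScalarTower A C B'] [Algebra.IsPushout A C B B'] [Algebra B' L] [Algebra B L] [IsScalarTower B B' L]
    [Algebra C L] [IsScalarTower C B' L] (p : Submonoid B') [IsLocalization p L]
    (N : Type u) [AddCommGroup N] [Module B N] [Module A N] [IsScalarTower A B N]
    [Module.Flat C (C ⊗[A] N)] : Module.Flat C (L ⊗[B] N) := by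
  haveI : SMulCommClass B C B' := ⟨fun b c x => by
    rw [Algebra.smul_def b, Algebra.smul_def c, Algebra.smul_def c, Algebra.smul_def b]; ring⟩
  haveI : SMulCommClass B C L := ⟨fun b c x => by
    rw [Algebra.smul_def b, Algebra.smul_def c, Algebra.smul_def c, Algebra.smul_def b]; ring⟩
  haveI : Module.Flat C (B' ⊗[B] N) :=
    Module.Flat.of_linearEquiv (Algebra.IsPushout.cancelBaseChange A C B B' N)
  haveI : IsScalarTower C B' (B' ⊗[B] N) := inferInstance
  haveI : IsScalarTower C B' (L ⊗[B'] (B' ⊗[B] N)) := inferInstance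
  haveI : Module.Flat C (L ⊗[B'] (B' ⊗[B] N)) :=
    InjFibre.flat_localized p (TensorProduct.mk B' L (B' ⊗[B] N) 1)
  exact Module.Flat.of_linearEquiv
    ((AlgebraTensorModule.cancelBaseChange B B' L L N).restrictScalars C).symm

/-- Change of the coefficient ring of a tensor product along a localisation. -/
theorem exists_equiv_of_localization {B R L : Type u} [CommRing B] [CommRing R] [CommRing L] [Algebra B R]
    [Algebra R L] [Algebra B L] [IsScalarTower B R L] (p : Submonoid B) [IsLocalization p R]
    (N : Type u) [AddCommGroup N] [Module R N] [Module B N] [IsScalarTower B R N] :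
    Nonempty (L ⊗[B] N ≃ₗ[L] L ⊗[R] N) := by
  haveI : IsLocalizedModule p (LinearMap.id : N →ₗ[B] N) :=
    isLocalizedModule_id p N R
  let e : R ⊗[B] N ≃ₗ[R] N :=
    ((isLocalizedModule_iff_isBaseChange p R (LinearMap.id : N →ₗ[B] N)).1 inferInstance).equiv
  exact ⟨(AlgebraTensorModule.cancelBaseChange B R L L N).symm.trans
    (AlgebraTensorModule.congr (LinearEquiv.refl L L) e)⟩

variable {X S X' S' : Scheme.{u}} {f : X ⟶ S} {f' : X' ⟶ S'} {g' : X' ⟶ X} {g : S' ⟶ S}

/-- Flatness of a base change at a point, from flatness of the tensor product of the stalk. -/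
theorem isFlatOverAt_of_flat_tensor (hc : IsPullback g' f' f g) (F : X.Modules) (x' : X')
    {V : S.Opens} (hV : IsAffineOpen V) {W : X.Opens} (hW : IsAffineOpen W) (e : W ≤ f ⁻¹ᵁ V)
    {O : S'.Opens} (hO : IsAffineOpen O) (eO : O ≤ g ⁻¹ᵁ V) (hxW : g' x' ∈ W) (hxO : f' x' ∈ O)
    (h : letI : Algebra Γ(S, V) Γ(S', O) := (g.appLE V O eO).hom.toAlgebra
      letI : Module Γ(S, V) (F.presheaf.stalk (g' x')) :=
        Module.compHom _ ((f.appLE V W e) ≫ X.presheaf.germ W (g' x') hxW).hom
      Module.Flat Γ(S', O) (Γ(S', O) ⊗[Γ(S, V)] F.presheaf.stalk (g' x'))) :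
    FlatMod.IsFlatOverAt f' ((Scheme.Modules.pullback g').obj F) x' := by
  let A := Γ(S, V)
  let B := Γ(X, W)
  let C := Γ(S', O)
  let W' : X'.Opens := g' ⁻¹ᵁ W ⊓ f' ⁻¹ᵁ O
  have hW' : IsAffineOpen W' := by
    haveI : IsAffine _ := hV
    haveI : IsAffine _ := hW
    haveI : IsAffine _ := hO
    exact .of_isIso (Scheme.Hom.isPullback_resLE hc eO e (rfl : W' = _)).isoPullback.hom
  have hP := (isIso_pushoutSection_iff hc eO e (rfl : W' = _)).1
    (isIso_pushoutSection_of_isAffineOpen hc eO e rfl hV hO hW)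
  let B' := Γ(X', W')
  have hxW' : x' ∈ W' := ⟨hxW, hxO⟩
  letI : Algebra A B := (f.appLE V W e).hom.toAlgebra
  letI : Algebra A C := (g.appLE V O eO).hom.toAlgebra
  letI : Algebra B B' := (g'.appLE W W' inf_le_left).hom.toAlgebra
  letI : Algebra C B' := (f'.appLE O W' inf_le_right).hom.toAlgebra
  letI : Algebra A B' := ((algebraMap B B').comp (algebraMap A B)).toAlgebra
  haveI : IsScalarTower A B B' := IsScalarTower.of_algebraMap_eq fun _ => rfl
  haveI : IsScalarTower A C B' := IsScalarTower.of_algebraMap_eq fun a => congr($(hP.w).hom a)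
  haveI : Algebra.IsPushout A B C B' := CommRingCat.isPushout_iff_isPushout.1 hP
  haveI : Algebra.IsPushout A C B B' := Algebra.IsPushout.symm inferInstance
  let R := X.presheaf.stalk (g' x')
  let L := X'.presheaf.stalk x'
  let N : Type u := F.presheaf.stalk (g' x')
  letI : Algebra B R := (X.presheaf.germ W (g' x') hxW).hom.toAlgebra
  haveI : IsLocalization.AtPrime R (hW.primeIdealOf ⟨g' x', hxW⟩).asIdeal := hW.isLocalization_stalk ⟨_, hxW⟩
  letI : Algebra B' L := (X'.presheaf.germ W' x' hxW').hom.toAlgebra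
  haveI : IsLocalization.AtPrime L (hW'.primeIdealOf ⟨x', hxW'⟩).asIdeal := hW'.isLocalization_stalk ⟨_, hxW'⟩
  letI : Algebra R L := (g'.stalkMap x').hom.toAlgebra
  letI : Algebra B L := ((algebraMap B' L).comp (algebraMap B B')).toAlgebra
  haveI : IsScalarTower B B' L := IsScalarTower.of_algebraMap_eq fun _ => rfl
  haveI : IsScalarTower B R L := IsScalarTower.of_algebraMap_eq fun b =>
    (FibCrit.germ_comm g' W W' inf_le_left x' hxW' b).symm
  letI : Algebra C L := ((algebraMap B' L).comp (algebraMap C B')).toAlgebra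
  haveI : IsScalarTower C B' L := IsScalarTower.of_algebraMap_eq fun _ => rfl
  letI : Module B N := Module.compHom N (X.presheaf.germ W (g' x') hxW).hom
  haveI : IsScalarTower B R N := IsScalarTower.of_algebraMap_smul fun _ _ => rfl
  letI : Module A N := Module.compHom N ((f.appLE V W e) ≫ X.presheaf.germ W (g' x') hxW).hom
  haveI : IsScalarTower A B N := IsScalarTower.of_algebraMap_smul fun _ _ => rfl
  haveI : Module.Flat C (C ⊗[A] N) := h
  have hflat : Module.Flat C (L ⊗[B] N) :=
    flat_tensor_localization (A := A) (B' := B') (hW'.primeIdealOf ⟨x', hxW'⟩).asIdeal.primeCompl N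
  obtain ⟨eRB⟩ := exists_equiv_of_localization (R := R) (L := L) (hW.primeIdealOf ⟨g' x', hxW⟩).asIdeal.primeCompl N
  let eP : ((Scheme.Modules.pullback g').obj F).presheaf.stalk x' ≃ₗ[L] L ⊗[R] N :=
    ((KFlat.pullStalkIso g' x').app F).toLinearEquiv
  rw [FlatModB.isFlatOverAt_iff f' _ x' hO hxO]
  letI := FlatModB.stalkModule f' ((Scheme.Modules.pullback g').obj F) x' O hxO
  haveI : IsScalarTower C L (((Scheme.Modules.pullback g').obj F).presheaf.stalk x') :=
    IsScalarTower.of_algebraMap_smul fun c m => by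
      show ((X'.presheaf.germ W' x' hxW').hom ((f'.appLE O W' inf_le_right).hom c)) • m = _
      rw [← FibCrit.germ_comm f' O W' inf_le_right x' hxW' c]
      rfl
  exact Module.Flat.of_linearEquiv ((eP.trans eRB.symm).restrictScalars C)

/-- Flatness over the base is stable under base change. -/
theorem isFlatOverAt_baseChange (hc : IsPullback g' f' f g) (F : X.Modules) (x' : X')
    (h : FlatMod.IsFlatOverAt f F (g' x')) :
    FlatMod.IsFlatOverAt f' ((Scheme.Modules.pullback g').obj F) x' := by
  obtain ⟨V, hV, hxV, -⟩ := exists_isAffineOpen_mem_and_subset (X := S) (x := f (g' x')) (U := ⊤) trivial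
  obtain ⟨W, hW, hxW, e⟩ := exists_isAffineOpen_mem_and_subset (X := X) (x := g' x') (U := f ⁻¹ᵁ V) hxV
  obtain ⟨O, hO, hxO, eO⟩ := exists_isAffineOpen_mem_and_subset (X := S') (x := f' x') (U := g ⁻¹ᵁ V) (by
    show g (f' x') ∈ V
    rw [← Scheme.Hom.comp_apply, ← hc.w, Scheme.Hom.comp_apply]
    exact hxV)
  refine isFlatOverAt_of_flat_tensor hc F x' hV hW e hO eO hxW hxO ?_
  letI : Algebra Γ(S, V) Γ(S', O) := (g.appLE V O eO).hom.toAlgebra
  letI : Module Γ(S, V) (F.presheaf.stalk (g' x')) :=
    Module.compHom _ ((f.appLE V W e) ≫ X.presheaf.germ W (g' x') hxW).hom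
  rw [FlatModB.isFlatOverAt_iff f F (g' x') hV hxV] at h
  haveI : Module.Flat Γ(S, V) (F.presheaf.stalk (g' x')) := by
    convert h using 1
    refine Module.ext' _ _ fun a m => ?_
    show ((X.presheaf.germ W (g' x') hxW).hom ((f.appLE V W e).hom a)) • m = _
    rw [← FibCrit.germ_comm f V W e (g' x') hxW a]
    rfl
  exact inferInstance

end Groth.Agent.FlatModBC
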