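import Groth.Agent.FlatModBC.Basic
import Groth.Agent.S9350

/-!
# Base change of flatness at a point and descent of flatness over the base
-/

universe u

set_option autoImplicit false
set_option linter.style.haveILetI false
set_option backward.isDefEq.respectTransparency false

open CategoryTheory CategoryTheory.Limits AlgebraicGeometry TopologicalSpace TensorProduct

namespace Groth.Agent.FlatModBC

variable {X S X' S' : Scheme.{u}} {f : X ⟶ S} {f' : X' ⟶ S'} {g' : X' ⟶ X} {g : S' ⟶ S}

/-- A morphism flat at a point is flat at the points above it after any base change. -/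
theorem flat_stalkMap_of_isPullback (hc : IsPullback g' f' f g) (x' : X')
    (h : (g.stalkMap (f' x')).hom.Flat) : (g'.stalkMap x').hom.Flat := by
  obtain ⟨V, hV, hxV, -⟩ := exists_isAffineOpen_mem_and_subset (X := S) (x := f (g' x')) (U := ⊤) trivial
  obtain ⟨W, hW, hxW, e⟩ := exists_isAffineOpen_mem_and_subset (X := X) (x := g' x') (U := f ⁻¹ᵁ V) hxV
  have hsV : g (f' x') ∈ V := by
    rw [← Scheme.Hom.comp_apply, ← hc.w, Scheme.Hom.comp_apply]
    exact hxV
  obtain ⟨O, hO, hxO, eO⟩ := exists_isAffineOpen_mem_and_subset (X := S') (x := f' x') (U := g ⁻¹ᵁ V) hsV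
  let A := Γ(S, V)
  let B := Γ(X, W)
  let C := Γ(S', O)
  let W' : X'.Opens := g' ⁻¹ᵁ W ⊓ f' ⁻¹ᵁ O
  have hW' : IsAffineOpen W' := by
    haveI : IsAffine _ := hV
    haveI : IsAffine _ := hW
    haveI : IsAffine _ := hO
    exact .of_isIso (Scheme.Hom.isPullback_resLE hc eO e (rfl : W' = _)).isoPullback.hom
  have hP := (isIso_pushoutSection_iff hc eO e (rfl : W' = _)).1
    (isIso_pushoutSection_of_isAffineOpen hc eO e rfl hV hO hW)
  let B' := Γ(X', W')
  have hxW' : x' ∈ W' := ⟨hxW, hxO⟩
  letI : Algebra A B := (f.appLE V W e).hom.toAlgebra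
  letI : Algebra A C := (g.appLE V O eO).hom.toAlgebra
  letI : Algebra B B' := (g'.appLE W W' inf_le_left).hom.toAlgebra
  letI : Algebra C B' := (f'.appLE O W' inf_le_right).hom.toAlgebra
  letI : Algebra A B' := ((algebraMap B B').comp (algebraMap A B)).toAlgebra
  haveI : IsScalarTower A B B' := IsScalarTower.of_algebraMap_eq fun _ => rfl
  haveI : IsScalarTower A C B' := IsScalarTower.of_algebraMap_eq fun a => congr($(hP.w).hom a)
  haveI : Algebra.IsPushout A B C B' := CommRingCat.isPushout_iff_isPushout.1 hP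
  let Rs := S.presheaf.stalk (g (f' x'))
  let Q := S'.presheaf.stalk (f' x')
  let R := X.presheaf.stalk (g' x')
  let L := X'.presheaf.stalk x'
  letI : Algebra A Rs := (S.presheaf.germ V (g (f' x')) hsV).hom.toAlgebra
  haveI : IsLocalization.AtPrime Rs (hV.primeIdealOf ⟨g (f' x'), hsV⟩).asIdeal := hV.isLocalization_stalk ⟨_, hsV⟩
  haveI : Module.Flat A Rs := IsLocalization.flat Rs (hV.primeIdealOf ⟨g (f' x'), hsV⟩).asIdeal.primeCompl
  letI : Algebra Rs Q := (g.stalkMap (f' x')).hom.toAlgebra
  haveI : Module.Flat Rs Q := h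
  letI : Algebra C Q := (S'.presheaf.germ O (f' x') hxO).hom.toAlgebra
  haveI : IsLocalization.AtPrime Q (hO.primeIdealOf ⟨f' x', hxO⟩).asIdeal := hO.isLocalization_stalk ⟨_, hxO⟩
  letI : Algebra A Q := ((algebraMap C Q).comp (algebraMap A C)).toAlgebra
  haveI : IsScalarTower A C Q := IsScalarTower.of_algebraMap_eq fun _ => rfl
  haveI : IsScalarTower A Rs Q := IsScalarTower.of_algebraMap_eq fun a =>
    (FibCrit.germ_comm g V O eO (f' x') hxO a).symm
  haveI : Module.Flat A Q := Module.Flat.trans A Rs Q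
  letI : Algebra B' L := (X'.presheaf.germ W' x' hxW').hom.toAlgebra
  haveI : IsLocalization.AtPrime L (hW'.primeIdealOf ⟨x', hxW'⟩).asIdeal := hW'.isLocalization_stalk ⟨_, hxW'⟩
  letI : Algebra Q L := (f'.stalkMap x').hom.toAlgebra
  letI : Algebra C L := ((algebraMap B' L).comp (algebraMap C B')).toAlgebra
  haveI : IsScalarTower C B' L := IsScalarTower.of_algebraMap_eq fun _ => rfl
  haveI : IsScalarTower C Q L := IsScalarTower.of_algebraMap_eq fun c =>
    (FibCrit.germ_comm f' O W' inf_le_right x' hxW' c).symm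
  letI : Algebra B L := ((algebraMap B' L).comp (algebraMap B B')).toAlgebra
  haveI : IsScalarTower B B' L := IsScalarTower.of_algebraMap_eq fun _ => rfl
  have h1 : Module.Flat B (L ⊗[C] Q) :=
    flat_tensor_localization (A := A) (B' := B') (hW'.primeIdealOf ⟨x', hxW'⟩).asIdeal.primeCompl Q
  obtain ⟨eq⟩ := exists_equiv_of_localization (R := Q) (L := L) (hO.primeIdealOf ⟨f' x', hxO⟩).asIdeal.primeCompl Q
  haveI : SMulCommClass C B L := ⟨fun b c x => by
    rw [Algebra.smul_def b, Algebra.smul_def c, Algebra.smul_def c, Algebra.smul_def b]; ring⟩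
  haveI : Module.Flat B L :=
    Module.Flat.of_linearEquiv ((eq.trans (TensorProduct.AlgebraTensorModule.rid Q L L)).restrictScalars B).symm
  letI : Algebra B R := (X.presheaf.germ W (g' x') hxW).hom.toAlgebra
  haveI : IsLocalization.AtPrime R (hW.primeIdealOf ⟨g' x', hxW⟩).asIdeal := hW.isLocalization_stalk ⟨_, hxW⟩
  letI : Algebra R L := (g'.stalkMap x').hom.toAlgebra
  haveI : IsScalarTower B R L := IsScalarTower.of_algebraMap_eq fun b =>
    (FibCrit.germ_comm g' W W' inf_le_left x' hxW' b).symm
  exact (Module.flat_iff_of_isLocalization R (hW.primeIdealOf ⟨g' x', hxW⟩).asIdeal.primeCompl L).2 inferInstance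

/-- A module flat over `S'` after base change is flat over `S` where `S' → S` is flat. -/
theorem isFlatOverAt_of_baseChange (hc : IsPullback g' f' f g) (F : X.Modules) (hF : Coh.IsQCoh F) (x' : X')
    (hg : (g.stalkMap (f' x')).hom.Flat)
    (h : FlatMod.IsFlatOverAt f' ((Scheme.Modules.pullback g').obj F) x') :
    FlatMod.IsFlatOverAt f F (g' x') := by
  rw [S9350.result g' f F hF x' (flat_stalkMap_of_isPullback hc x' hg), hc.w]
  let R := S.presheaf.stalk ((f' ≫ g) x')
  let Q := S'.presheaf.stalk (f' x')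
  let M := ((Scheme.Modules.pullback g').obj F).presheaf.stalk x'
  letI : Algebra R Q := (g.stalkMap (f' x')).hom.toAlgebra
  haveI : Module.Flat R Q := hg
  letI : Module Q M := FlatMod.moduleStalkOver f' ((Scheme.Modules.pullback g').obj F) x'
  haveI : Module.Flat Q M := h
  letI : Module R M := FlatMod.moduleStalkOver (f' ≫ g) ((Scheme.Modules.pullback g').obj F) x'
  haveI : IsScalarTower R Q M := IsScalarTower.of_algebraMap_smul fun a m => by
    show (f'.stalkMap x').hom ((g.stalkMap (f' x')).hom a) • m = ((f' ≫ g).stalkMap x').hom a • m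
    rw [Scheme.Hom.stalkMap_comp]
    rfl
  exact Module.Flat.trans R Q M

end Groth.Agent.FlatModBC
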