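import Mathlib
import Groth.Agent.GenFree.ReducedMain
import Groth.Agent.InjFibre.Stalk
import Groth.Agent.QC.FiniteType

/-!
# Generic flatness for modules
-/

universe u

set_option autoImplicit false
set_option linter.style.haveILetI false
set_option backward.isDefEq.respectTransparency false

open CategoryTheory AlgebraicGeometry TopologicalSpace

namespace Groth.Agent.FlatModBC

/-- A module free after inverting `f` is flat at the primes avoiding `f`. -/
theorem flat_localized_of_free_away {R S M : Type u} [CommRing R] [CommRing S] [Algebra R S] [AddCommGroup M]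
    [Module S M] [Module R M] [IsScalarTower R S M] (f : R)
    (h : Module.Free (Localization.Away f) (LocalizedModule (Submonoid.powers f) M))
    (q : PrimeSpectrum S) (hf : algebraMap R S f ∉ q.asIdeal) :
    Module.Flat R (LocalizedModule q.asIdeal.primeCompl M) := by
  haveI := h
  haveI : Module.Flat R (Localization.Away f) := IsLocalization.flat _ (Submonoid.powers f)
  haveI : Module.Flat R (LocalizedModule (Submonoid.powers f) M) :=
    Module.Flat.trans R (Localization.Away f) _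
  refine (InjFibre.flat_localized_comap_iff (A := R) (B := R) (C := S) (M := M) (Submonoid.powers f)).1
    inferInstance q ?_
  rintro _ ⟨k, rfl⟩
  rw [map_pow]
  exact fun hk => hf (q.isPrime.mem_of_pow_mem k hk)

variable {X Y : Scheme.{u}}

/-- Generic flatness over an affine open with reduced sections. -/
theorem exists_dvd_flatAt (u : X ⟶ Y) [LocallyOfFiniteType u] (F : X.Modules) [hq : Coh.IsQCoh F]
    (hF : CohB1.IsFT F) {V : Y.Opens} (hV : IsAffineOpen V) [IsReduced Γ(Y, V)]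
    (t : Finset X.affineOpens) (ht : ∀ W ∈ t, W.1 ≤ u ⁻¹ᵁ V) {a : Γ(Y, V)} (ha : a ≠ 0) :
    ∃ h, a ∣ h ∧ h ≠ 0 ∧
      ∀ W ∈ t, ∀ x : X, x ∈ (W.1 : X.Opens) → u x ∈ Y.basicOpen h → FlatMod.IsFlatOverAt u F x := by
  classical
  induction t using Finset.induction_on with
  | empty => exact ⟨a, dvd_rfl, ha, by simp⟩
  | insert W t hWt ih =>
    obtain ⟨h, hah, hh, hflat⟩ := ih fun W' hW' => ht W' (Finset.mem_insert_of_mem hW')
    have e : W.1 ≤ u ⁻¹ᵁ V := ht W (Finset.mem_insert_self _ _)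
    letI : Algebra Γ(Y, V) Γ(X, W.1) := (u.appLE V W.1 e).hom.toAlgebra
    haveI : Algebra.FiniteType Γ(Y, V) Γ(X, W.1) := u.finiteType_appLE hV W.2 e
    letI : Module Γ(Y, V) Γ(F, W.1) := Module.compHom Γ(F, W.1) (u.appLE V W.1 e).hom
    haveI : IsScalarTower Γ(Y, V) Γ(X, W.1) Γ(F, W.1) := IsScalarTower.of_algebraMap_smul fun _ _ => rfl
    haveI : Module.Finite Γ(X, W.1) Γ(F, W.1) := QC.finite_sections (M := F) W.2 hF
    obtain ⟨g, hhg, hg, hfree, -⟩ :=
      GenFree.generic_freeness_reduced (R := Γ(Y, V)) (S := Γ(X, W.1)) (M := Γ(F, W.1)) hh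
    refine ⟨g, hah.trans hhg, hg, fun W' hW' x hx hxg => ?_⟩
    rcases Finset.mem_insert.1 hW' with rfl | hW'
    · rw [InjFibre.isFlatOverAt_iff u F hq hV W'.2 e x hx]
      refine flat_localized_of_free_away g hfree _ ?_
      show (u.appLE V W'.1 e).hom g ∉ _
      intro hmem
      have hx' : x ∈ X.basicOpen ((u.appLE V W'.1 e).hom g) := by
        rw [Scheme.Hom.appLE, CommRingCat.comp_apply, Scheme.basicOpen_res, ← Scheme.Hom.preimage_basicOpen]
        exact ⟨hx, hxg⟩
      have h2 : W'.2.primeIdealOf ⟨x, hx⟩ ∈ PrimeSpectrum.basicOpen ((u.appLE V W'.1 e).hom g) := by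
        rw [← W'.2.fromSpec_preimage_basicOpen]
        show W'.2.fromSpec (W'.2.primeIdealOf ⟨x, hx⟩) ∈ X.basicOpen ((u.appLE V W'.1 e).hom g)
        rw [W'.2.fromSpec_primeIdealOf]
        exact hx'
      exact h2 hmem
    · refine hflat W' hW' x hx ?_
      obtain ⟨c, rfl⟩ := hhg
      exact (Y.basicOpen_mul h c).le hxg |>.1

/-- Generic flatness over an integral base. -/
theorem exists_opens_flatAt (u : X ⟶ Y) [IsIntegral Y] [LocallyOfFiniteType u] [QuasiCompact u]
    (F : X.Modules) [Coh.IsQCoh F] (hF : CohB1.IsFT F) :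
    ∃ U : Y.Opens, (U : Set Y).Nonempty ∧ ∀ x : X, u.base x ∈ U → FlatMod.IsFlatOverAt u F x := by
  classical
  obtain ⟨y⟩ := (inferInstance : Nonempty Y)
  obtain ⟨_, ⟨V, hV, rfl⟩, hyV, -⟩ := Y.isBasis_affineOpens.exists_subset_of_mem_open (Set.mem_univ y) isOpen_univ
  haveI : Nonempty V := ⟨⟨y, hyV⟩⟩
  obtain ⟨t, ht⟩ : ∃ t : Finset X.affineOpens, (u ⁻¹ᵁ V : Set X) = ⋃ W ∈ t, (W.1 : Set X) := by
    have h := (isCompact_and_isOpen_iff_finite_and_eq_biUnion_affineOpens (X := X)).1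
      ⟨u.isCompact_preimage hV.isCompact, (u ⁻¹ᵁ V).2⟩
    obtain ⟨t, ht, ht'⟩ := h
    exact ⟨ht.toFinset, by simpa using ht'⟩
  obtain ⟨h, -, hh, hflat⟩ := exists_dvd_flatAt u F hF hV t (fun W hW x hx => by
    have : x ∈ (u ⁻¹ᵁ V : Set X) := by rw [ht]; exact Set.mem_biUnion hW hx
    exact this) one_ne_zero
  refine ⟨Y.basicOpen h, ?_, fun x hx => ?_⟩
  · rw [Set.nonempty_iff_ne_empty]
    intro he
    exact hh (eq_zero_of_basicOpen_eq_bot h (SetLike.coe_injective he))
  · have : x ∈ (u ⁻¹ᵁ V : Set X) := Y.basicOpen_le h hx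
    rw [ht, Set.mem_iUnion₂] at this
    obtain ⟨W, hW, hxW⟩ := this
    exact hflat W hW x hxW hx

end Groth.Agent.FlatModBC
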