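import Mathlib
import Groth.Agent.GenFree.ReducedMain
import Groth.Agent.FlatSpread.Fp
import Groth.Agent.S4853

/-!
# Stratifications by freeness
-/

universe u

set_option autoImplicit false
set_option linter.style.haveILetI false
set_option backward.isDefEq.respectTransparency false

open TensorProduct MvPolynomial

namespace Groth.Agent.FlatModBC

/-- `M` becomes free over every algebra in which `J` is killed and `h` is invertible. -/
def FreeOn {R : Type u} [CommRing R] (M : Type u) [AddCommGroup M] [Module R M] (J : Ideal R) (h : R) : Prop :=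
  ∀ (C : Type u) [CommRing C] [Algebra R C], J.map (algebraMap R C) = ⊥ → IsUnit (algebraMap R C h) →
    Module.Free C (C ⊗[R] M)

/-- A finite family of finitely generated modules over polynomial rings becomes simultaneously free
after inverting an element avoiding a given proper radical ideal. -/
theorem exists_freeOn_notMem {R : Type u} [CommRing R] {ι : Type} [Finite ι] (n m : ι → ℕ)
    (W : ∀ k, Submodule (MvPolynomial (Fin (n k)) R) (Fin (m k) → MvPolynomial (Fin (n k)) R))
    {J : Ideal R} (hJ : J.IsRadical) (hJtop : J ≠ ⊤) :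
    ∃ h : R, h ∉ J ∧ ∀ k, FreeOn ((Fin (m k) → MvPolynomial (Fin (n k)) R) ⧸ W k) J h := by
  classical
  cases nonempty_fintype ι
  haveI : IsReduced (R ⧸ J) := (Ideal.isRadical_iff_quotient_reduced J).1 hJ
  haveI : Nontrivial (R ⧸ J) := Ideal.Quotient.nontrivial_iff.2 hJtop
  let N : ι → Type u := fun k => (Fin (m k) → MvPolynomial (Fin (n k)) R) ⧸ W k
  suffices key : ∀ t : Finset ι, ∃ h : R ⧸ J, h ≠ 0 ∧ ∀ k ∈ t,
      Module.Free (Localization.Away h) (Localization.Away h ⊗[R ⧸ J] ((R ⧸ J) ⊗[R] N k)) by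
    obtain ⟨hb, hh, hfree⟩ := key Finset.univ
    obtain ⟨h, rfl⟩ := Ideal.Quotient.mk_surjective hb
    refine ⟨h, fun hm => hh (Ideal.Quotient.eq_zero_iff_mem.2 hm), fun k => ?_⟩
    intro C _ _ hJC hu
    letI : Algebra (R ⧸ J) C := (Ideal.Quotient.lift J (algebraMap R C) fun a ha =>
      Ideal.mem_bot.1 (hJC ▸ Ideal.mem_map_of_mem _ ha)).toAlgebra
    haveI : IsScalarTower R (R ⧸ J) C := IsScalarTower.of_algebraMap_eq fun _ => rfl
    let L := Localization.Away (Ideal.Quotient.mk J h)
    have hu' : IsUnit (algebraMap (R ⧸ J) C (Ideal.Quotient.mk J h)) := hu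
    letI : Algebra L C := (IsLocalization.Away.lift (S := L) _ hu').toAlgebra
    haveI : IsScalarTower (R ⧸ J) L C :=
      IsScalarTower.of_algebraMap_eq fun r => (IsLocalization.Away.lift_eq (S := L) _ hu' r).symm
    haveI := hfree k (Finset.mem_univ k)
    haveI : Module.Free C (C ⊗[R ⧸ J] ((R ⧸ J) ⊗[R] N k)) :=
      Module.Free.of_equiv (AlgebraTensorModule.cancelBaseChange (R ⧸ J) L C C ((R ⧸ J) ⊗[R] N k))
    exact Module.Free.of_equiv (AlgebraTensorModule.cancelBaseChange R (R ⧸ J) C C (N k))
  intro t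
  induction t using Finset.induction_on with
  | empty => exact ⟨1, one_ne_zero, by simp⟩
  | insert k t _ ih =>
    obtain ⟨a, ha, hfree⟩ := ih
    let P := MvPolynomial (Fin (n k)) (R ⧸ J)
    let V : Submodule P (Fin (m k) → P) := Submodule.span P
      ((fun v j => MvPolynomial.map (algebraMap R (R ⧸ J)) (v j)) '' (W k : Set (Fin (m k) → MvPolynomial (Fin (n k)) R)))
    obtain ⟨e⟩ := GenFree.nonempty_baseChange_equiv (R₀ := R) (R := R ⧸ J)
      (W k : Set (Fin (m k) → MvPolynomial (Fin (n k)) R)) _ rfl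
    rw [Submodule.span_eq] at e
    obtain ⟨f, haf, hf, hk, -⟩ := GenFree.generic_freeness_reduced (R := R ⧸ J)
      (S := P) (M := (Fin (m k) → P) ⧸ V) ha
    refine ⟨f, hf, fun k' hk' => ?_⟩
    rcases Finset.mem_insert.1 hk' with rfl | hk'
    · haveI : Module.Free (Localization.Away f) (Localization.Away f ⊗[R ⧸ J] ((Fin (m k') → P) ⧸ V)) :=
        Module.Free.of_equiv (LocalizedModule.equivTensorProduct (Submonoid.powers f) _)
      exact Module.Free.of_equiv (LinearEquiv.baseChange (R ⧸ J) (Localization.Away f) _ _ e.symm)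
    · exact GenFree.free_away_of_dvd haf _ (hfree k' hk')

/-- The list of successive elements over a noetherian ring. -/
theorem exists_list_freeOn {R : Type u} [CommRing R] [IsNoetherianRing R] {ι : Type} [Finite ι] (n m : ι → ℕ)
    (W : ∀ k, Submodule (MvPolynomial (Fin (n k)) R) (Fin (m k) → MvPolynomial (Fin (n k)) R)) (I : Ideal R) :
    ∃ l : List R, I ⊔ Ideal.span {a | a ∈ l} = ⊤ ∧ ∀ (i : ℕ) (hi : i < l.length), ∀ k,
      FreeOn ((Fin (m k) → MvPolynomial (Fin (n k)) R) ⧸ W k) (I ⊔ Ideal.span {a | a ∈ l.take i}).radical l[i] := by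
  induction I using WellFoundedGT.induction with
  | ind I ih =>
    by_cases hI : I = ⊤
    · exact ⟨[], by simp [hI], fun i hi => absurd hi (Nat.not_lt_zero i)⟩
    obtain ⟨h, hh, hfree⟩ := exists_freeOn_notMem n m W (Ideal.radical_isRadical I)
      (fun e => hI (Ideal.radical_eq_top.1 e))
    have hlt : I < I ⊔ Ideal.span {h} :=
      left_lt_sup.2 fun hle => hh (Ideal.le_radical (hle (Ideal.mem_span_singleton_self h)))
    obtain ⟨l, hl, hl'⟩ := ih _ hlt
    have hspan : ∀ s : List R, I ⊔ Ideal.span {a | a ∈ h :: s} = I ⊔ Ideal.span {h} ⊔ Ideal.span {a | a ∈ s} := by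
      intro s
      rw [sup_assoc, ← Ideal.span_union]
      congr 2
      ext a
      simp
    refine ⟨h :: l, (hspan l).trans hl, fun i hi k => ?_⟩
    rcases i with _ | i
    · simp only [List.take_zero, List.not_mem_nil, Set.ofPred_false, Ideal.span_empty, sup_bot_eq,
        List.getElem_cons_zero]
      exact hfree k
    · simp only [List.take_succ_cons, List.getElem_cons_succ, hspan]
      exact hl' i (by simpa using hi) k

/-- A common finitely generated model of finitely many finitely presented modules. -/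
theorem exists_model_family {A : Type u} [CommRing A] {ι : Type} [Finite ι] (n m : ι → ℕ)
    (s : ∀ k, Finset (Fin (m k) → MvPolynomial (Fin (n k)) A)) :
    ∃ (R : Type u) (_ : CommRing R) (_ : Algebra R A) (_ : IsNoetherianRing R)
      (W : ∀ k, Submodule (MvPolynomial (Fin (n k)) R) (Fin (m k) → MvPolynomial (Fin (n k)) R)),
      Function.Injective (algebraMap R A) ∧
      ∀ k, Nonempty ((A ⊗[R] ((Fin (m k) → MvPolynomial (Fin (n k)) R) ⧸ W k)) ≃ₗ[A]
        (Fin (m k) → MvPolynomial (Fin (n k)) A) ⧸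
          Submodule.span (MvPolynomial (Fin (n k)) A) (s k : Set (Fin (m k) → MvPolynomial (Fin (n k)) A))) := by
  classical
  cases nonempty_fintype ι
  let cs : Finset A := Finset.univ.biUnion fun k => (s k).biUnion fun x =>
    Finset.univ.biUnion fun j => (x j).support.image fun a => (x j).coeff a
  let R := Algebra.adjoin ℤ (cs : Set A)
  haveI : Algebra.FiniteType ℤ R :=
    (Subalgebra.fg_iff_finiteType R).1 (Subalgebra.fg_adjoin_finset cs)
  haveI : IsNoetherianRing R := Algebra.FiniteType.isNoetherianRing ℤ R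
  have hlift : ∀ k, ∀ x ∈ s k, ∃ x₀ : Fin (m k) → MvPolynomial (Fin (n k)) R,
      (fun j => MvPolynomial.map (algebraMap R A) (x₀ j)) = x := by
    intro k x hx
    have : ∀ j, x j ∈ (MvPolynomial.map (σ := Fin (n k)) (algebraMap R A)).range := fun j => by
      rw [← (x j).support_sum_monomial_coeff]
      refine Subring.sum_mem _ fun a ha => ?_
      have hc : (x j).coeff a ∈ R := Algebra.subset_adjoin (Finset.mem_biUnion.2
        ⟨k, Finset.mem_univ _, Finset.mem_biUnion.2 ⟨x, hx, Finset.mem_biUnion.2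
          ⟨j, Finset.mem_univ _, Finset.mem_image_of_mem _ ha⟩⟩⟩)
      exact ⟨monomial a ⟨_, hc⟩, by simp [map_monomial]⟩
    choose x₀ hx₀ using this
    exact ⟨x₀, funext hx₀⟩
  choose lift hlift using hlift
  refine ⟨R, inferInstance, inferInstance, inferInstance,
    fun k => Submodule.span _ (Set.range fun x : s k => lift k x.1 x.2), Subtype.val_injective, fun k =>
      GenFree.nonempty_baseChange_equiv (R₀ := R) (R := A) _ _ ?_⟩
  ext x
  constructor
  · rintro ⟨_, ⟨⟨y, hy⟩, rfl⟩, rfl⟩
    simp only [hlift k y hy]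
    exact hy
  · exact fun hx => ⟨_, ⟨⟨x, hx⟩, rfl⟩, hlift k x hx⟩

/-- **Stratification by freeness** of finitely many finitely presented modules over finitely presented
algebras, by finitely generated ideals. -/
theorem exists_strat {A : Type u} [CommRing A] {ι : Type} [Finite ι] (S : ι → Type u) [∀ k, CommRing (S k)]
    [∀ k, Algebra A (S k)] [∀ k, Algebra.FinitePresentation A (S k)] (M : ι → Type u)
    [∀ k, AddCommGroup (M k)] [∀ k, Module (S k) (M k)] [∀ k, Module A (M k)]
    [∀ k, IsScalarTower A (S k) (M k)] [∀ k, Module.FinitePresentation (S k) (M k)] :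
    ∃ (l : List A) (J : ℕ → Ideal A), Ideal.span {a | a ∈ l} = ⊤ ∧ J l.length = ⊤ ∧ (∀ i, (J i).FG) ∧
      (∀ i, J i ≤ (Ideal.span {a | a ∈ l.take i}).radical) ∧ (∀ i, Ideal.span {a | a ∈ l.take i} ≤ J i) ∧
      ∀ (i : ℕ) (hi : i < l.length), ∀ k, FreeOn (M k) (J i) l[i] := by
  classical
  choose n m π hπ hπfg W hW e using fun k => FlatSpread.exists_presentation (R := A) (S := S k) (M := M k)
  choose s hs using fun k => hW k
  obtain ⟨R, _, _, _, W₀, -, hW₀⟩ := exists_model_family n m s
  obtain ⟨l₀, hl₀, hfree⟩ := exists_list_freeOn n m W₀ ⊥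
  let J₀ : ℕ → Ideal R := fun i => ((⊥ : Ideal R) ⊔ Ideal.span {a | a ∈ l₀.take i}).radical
  have hmap : ∀ i, (Ideal.span {a | a ∈ l₀.take i}).map (algebraMap R A) =
      Ideal.span {a | a ∈ (l₀.map (algebraMap R A)).take i} := by
    intro i
    rw [Ideal.map_span, ← List.map_take]
    congr 1
    ext a
    exact List.mem_map.symm.trans (by rw [List.map_take]; rfl)
  have htop : (Ideal.span {a | a ∈ l₀}).map (algebraMap R A) = ⊤ := by
    rw [bot_sup_eq] at hl₀
    rw [hl₀, Ideal.map_top]
  refine ⟨l₀.map (algebraMap R A), fun i => (J₀ i).map (algebraMap R A), ?_, ?_,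
    fun i => Ideal.FG.map (IsNoetherian.noetherian (J₀ i)) _, fun i => ?_, fun i => ?_, fun i hi k => ?_⟩
  · rw [← htop, Ideal.map_span]
    congr 1
    ext a
    simp
  · rw [eq_top_iff, ← htop, List.length_map]
    refine Ideal.map_mono ?_
    simp only [J₀, List.take_length, bot_sup_eq]
    exact Ideal.le_radical
  · rw [← hmap]
    exact (Ideal.map_radical_le _).trans (Ideal.radical_mono (by rw [bot_sup_eq]))
  · rw [← hmap]
    exact Ideal.map_mono (le_sup_right.trans Ideal.le_radical)
  · intro C _ _ hJC hu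
    rw [List.length_map] at hi
    letI : Algebra R C := ((algebraMap A C).comp (algebraMap R A)).toAlgebra
    haveI : IsScalarTower R A C := IsScalarTower.of_algebraMap_eq fun _ => rfl
    rw [List.getElem_map] at hu
    haveI := hfree i hi k C (by rw [IsScalarTower.algebraMap_eq R A C, ← Ideal.map_map]; exact hJC) hu
    obtain ⟨e₁⟩ := hW₀ k
    obtain ⟨e₂⟩ := e k
    letI : Module (MvPolynomial (Fin (n k)) A) (M k) := Module.compHom (M k) (π k).toRingHom
    haveI : IsScalarTower A (MvPolynomial (Fin (n k)) A) (M k) := ⟨fun r t x => by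
      show π k (r • t) • x = r • (π k t • x)
      rw [map_smul, smul_assoc]⟩
    haveI : Module.Free C (C ⊗[A] (A ⊗[R] ((Fin (m k) → MvPolynomial (Fin (n k)) R) ⧸ W₀ k))) :=
      Module.Free.of_equiv (AlgebraTensorModule.cancelBaseChange R A C C _).symm
    exact Module.Free.of_equiv (LinearEquiv.baseChange A C (A ⊗[R] _) (M k)
      (e₁.trans (((Submodule.quotEquivOfEq _ _ (hs k)).trans e₂).restrictScalars A)))

/-- Freeness lifts through a nilpotent ideal for a flat module. -/
theorem free_of_flat_of_nilpotent {C : Type u} [CommRing C] (J : Ideal C) (hJ : IsNilpotent J) (M : Type u)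
    [AddCommGroup M] [Module C M] [Module.Flat C M] (hfree : Module.Free (C ⧸ J) ((C ⧸ J) ⊗[C] M)) :
    Module.Free C M := by
  obtain ⟨R₀, -, -, h⟩ := S4853.result M J hJ hfree
  haveI : Module.Free C (C ⊗[C] M) :=
    ((h C).1).2 (((h C).2).1 (Module.Flat.of_linearEquiv (TensorProduct.lid C M)))
  exact Module.Free.of_equiv (TensorProduct.lid C M)

end Groth.Agent.FlatModBC
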