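import Mathlib
import Groth.Agent.FlatModBC.Basic
import Groth.Agent.FlatModBC.StratRing
import Groth.Agent.QC.FTIdeal
import Groth.Agent.QC.FiniteType
import Groth.Prelude.Def_FlatMod2

/-!
# Flatness on a stratum
-/

universe u

set_option autoImplicit false
set_option linter.style.haveILetI false
set_option backward.isDefEq.respectTransparency false

open CategoryTheory CategoryTheory.Limits AlgebraicGeometry TopologicalSpace TensorProduct

namespace Groth.Agent.FlatModBC

/-- Localising the module preserves flatness of a base change. -/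
theorem flat_tensor_localized {A B C M M' : Type u} [CommRing A] [CommRing B] [CommRing C] [Algebra A B]
    [Algebra A C] [AddCommGroup M] [Module A M] [Module B M] [IsScalarTower A B M]
    [AddCommGroup M'] [Module A M'] [Module B M'] [IsScalarTower A B M']
    (p : Submonoid B) (f : M →ₗ[B] M') [IsLocalizedModule p f] [Module.Flat C (C ⊗[A] M)] :
    Module.Flat C (C ⊗[A] M') := by
  rw [Module.Flat.iff_rTensor_injective']
  intro N
  have key : ∀ (L : Type u) [AddCommGroup L] [Module A L] [Module B L] [IsScalarTower A B L]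
      (Q Q' : Type u) [AddCommGroup Q] [Module C Q] [Module A Q] [IsScalarTower A C Q] [AddCommGroup Q']
      [Module C Q'] [Module A Q'] [IsScalarTower A C Q'] (φ : Q →ₗ[C] Q'),
      Function.Injective (φ.rTensor (C ⊗[A] L)) ↔
        Function.Injective ((φ.restrictScalars A).lTensor L) := by
    intro L _ _ _ _ Q Q' _ _ _ _ _ _ _ _ φ
    let e := (AlgebraTensorModule.cancelBaseChange A C C Q L).toEquiv.trans (TensorProduct.comm A Q L).toEquiv
    let e' := (AlgebraTensorModule.cancelBaseChange A C C Q' L).toEquiv.trans (TensorProduct.comm A Q' L).toEquiv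
    have hsq : ∀ z, e' (φ.rTensor (C ⊗[A] L) z) = (φ.restrictScalars A).lTensor L (e z) := by
      intro z
      induction z using TensorProduct.induction_on with
      | zero => simp [e, e']
      | tmul q cl =>
        induction cl using TensorProduct.induction_on with
        | zero => simp [e, e']
        | tmul c l => simp [e, e']
        | add a b ha hb =>
          simp only [e, e', Equiv.trans_apply, LinearEquiv.coe_toEquiv, tmul_add, map_add] at ha hb ⊢
          rw [ha, hb]
      | add a b ha hb =>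
        simp only [e, e', Equiv.trans_apply, LinearEquiv.coe_toEquiv, map_add] at ha hb ⊢
        rw [ha, hb]
    have : φ.rTensor (C ⊗[A] L) = e'.symm ∘ (φ.restrictScalars A).lTensor L ∘ e := funext fun z => by
      simp only [Function.comp_apply]
      rw [← hsq, Equiv.symm_apply_apply]
    rw [this, Equiv.comp_injective, Equiv.injective_comp]
  rw [key M' N C N.subtype]
  have h : Function.Injective (AlgebraTensorModule.lTensor B M (N.subtype.restrictScalars A)) := by
    rw [AlgebraTensorModule.coe_lTensor, ← key M N C N.subtype]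
    exact Module.Flat.iff_rTensor_injective'.1 (inferInstance : Module.Flat C (C ⊗[A] M)) N
  have := IsLocalizedModule.map_injective p (AlgebraTensorModule.rTensor A N f)
    (AlgebraTensorModule.rTensor A C f) _ h
  rw [IsLocalizedModule.map_lTensor] at this
  simpa [AlgebraTensorModule.coe_lTensor] using this

variable {X S : Scheme.{u}}

/-- An ideal sheaf without zeros on an affine open generates the unit ideal there. -/
theorem map_appLE_eq_top {T : Scheme.{u}} (g : T ⟶ S) (L : S.IdealSheafData) (U : S.affineOpens) {O : T.Opens}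
    (hO : IsAffineOpen O) (eO : O ≤ g ⁻¹ᵁ U.1) (h : ∀ t, t ∈ O → g t ∉ L.support) :
    (L.ideal U).map (g.appLE U.1 O eO).hom = ⊤ := by
  by_contra hne
  obtain ⟨𝔪, hm, hle⟩ := Ideal.exists_le_maximal _ hne
  let p : PrimeSpectrum Γ(T, O) := ⟨𝔪, hm.isPrime⟩
  have htO : hO.fromSpec p ∈ O := hO.range_fromSpec.subset ⟨p, rfl⟩
  apply h _ htO
  rw [Scheme.IdealSheafData.mem_support_iff_of_mem (U := U) (eO htO), Scheme.mem_zeroLocus_iff]
  intro a ha hta
  have h1 : hO.fromSpec p ∈ T.basicOpen ((g.appLE U.1 O eO).hom a) := by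
    rw [Scheme.Hom.appLE, CommRingCat.comp_apply, Scheme.basicOpen_res, ← Scheme.Hom.preimage_basicOpen]
    exact ⟨htO, hta⟩
  have h2 : p ∈ PrimeSpectrum.basicOpen ((g.appLE U.1 O eO).hom a) := by
    rw [← hO.fromSpec_preimage_basicOpen]
    exact h1
  exact h2 (hle (Ideal.mem_map_of_mem _ ha))

/-- An ideal sheaf in the kernel of a morphism vanishes on sections. -/
theorem map_appLE_eq_bot {T : Scheme.{u}} (g : T ⟶ S) (K : S.IdealSheafData) (hK : K ≤ g.ker)
    (U : S.affineOpens) {O : T.Opens} (eO : O ≤ g ⁻¹ᵁ U.1) :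
    (K.ideal U).map (g.appLE U.1 O eO).hom = ⊥ := by
  rw [Ideal.map_eq_bot_iff_le_ker]
  intro a ha
  have h1 : (g.app U.1).hom a = 0 := Scheme.Hom.ideal_ker_le g U (hK U ha)
  rw [RingHom.mem_ker, Scheme.Hom.appLE, CommRingCat.comp_apply, h1, map_zero]

/-- Flatness of the base change of a module to a stratum, from freeness on a chart. -/
theorem isFlatOver_stratum {f : X ⟶ S} (F : X.Modules) [hq : Coh.IsQCoh F]
    {X' T : Scheme.{u}} {f' : X' ⟶ T} {g' : X' ⟶ X} {g : T ⟶ S} (hc : IsPullback g' f' f g)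
    (U : S.affineOpens) (Ws : Finset X.affineOpens) (hWs : (f ⁻¹ᵁ U.1 : Set X) = ⋃ W ∈ Ws, (W.1 : Set X))
    (K L K' : S.IdealSheafData) (hKg : K ≤ g.ker) (hgL : ∀ t, g t ∉ L.support) (hgU : ∀ t, g t ∈ U.1)
    (J J' : Ideal Γ(S, U.1)) (h : Γ(S, U.1)) (hb : J * K'.ideal U ≤ K.ideal U)
    (hc' : L.ideal U ≤ K.ideal U ⊔ J' * K'.ideal U) (hd : J' ≤ (J ⊔ Ideal.span {h}).radical)
    (hfree : ∀ W ∈ Ws, ∀ e : W.1 ≤ f ⁻¹ᵁ U.1,
      letI : Module Γ(S, U.1) Γ(F, W.1) := Module.compHom Γ(F, W.1) (f.appLE U.1 W.1 e).hom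
      FreeOn Γ(F, W.1) J h) :
    FlatMod.IsFlatOver f' ((Scheme.Modules.pullback g').obj F) := by
  intro x'
  obtain ⟨O, hO, hxO, eO⟩ := exists_isAffineOpen_mem_and_subset (X := T) (x := f' x') (U := g ⁻¹ᵁ U.1) (hgU _)
  have hxU : g' x' ∈ (f ⁻¹ᵁ U.1 : Set X) := by
    show f (g' x') ∈ U.1
    rw [← Scheme.Hom.comp_apply, hc.w, Scheme.Hom.comp_apply]
    exact hgU _
  rw [hWs, Set.mem_iUnion₂] at hxU
  obtain ⟨W, hW, hxW⟩ := hxU
  have e : W.1 ≤ f ⁻¹ᵁ U.1 := fun x hx => by
    have : x ∈ (f ⁻¹ᵁ U.1 : Set X) := by rw [hWs]; exact Set.mem_biUnion hW hx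
    exact this
  refine isFlatOverAt_of_flat_tensor hc F x' U.2 W.2 e hO eO hxW hxO ?_
  let A := Γ(S, U.1)
  let C := Γ(T, O)
  let B := Γ(X, W.1)
  let q : A →+* C := (g.appLE U.1 O eO).hom
  letI : Algebra A C := q.toAlgebra
  letI : Algebra A B := (f.appLE U.1 W.1 e).hom.toAlgebra
  letI : Module A Γ(F, W.1) := Module.compHom Γ(F, W.1) (f.appLE U.1 W.1 e).hom
  haveI : IsScalarTower A B Γ(F, W.1) := IsScalarTower.of_algebraMap_smul fun _ _ => rfl
  have hK0 : (K.ideal U).map q = ⊥ := map_appLE_eq_bot g K hKg U eO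
  have h1 : (J'.map q) * (K'.ideal U).map q = ⊤ := by
    rw [← Ideal.map_mul, eq_top_iff, ← map_appLE_eq_top g L U hO eO fun t _ => hgL t]
    refine (Ideal.map_mono hc').trans ?_
    rw [Ideal.map_sup, hK0, bot_sup_eq]
  have hK' : (K'.ideal U).map q = ⊤ := eq_top_iff.2 (h1.ge.trans Ideal.mul_le_right)
  have hJ' : J'.map q = ⊤ := eq_top_iff.2 (h1.ge.trans Ideal.mul_le_left)
  have hJ : J.map q = ⊥ := by
    rw [eq_bot_iff, ← hK0]
    refine le_trans ?_ (Ideal.map_mono hb)
    rw [Ideal.map_mul, hK', Ideal.mul_top]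
  have hu : IsUnit (q h) := by
    rw [← Ideal.span_singleton_eq_top]
    have h2 : ((J ⊔ Ideal.span {h}).radical).map q = ⊤ := eq_top_iff.2 (hJ'.ge.trans (Ideal.map_mono hd))
    have h3 := (eq_top_iff.2 (h2.ge.trans (Ideal.map_radical_le q)) : ((J ⊔ Ideal.span {h}).map q).radical = ⊤)
    rw [Ideal.radical_eq_top, Ideal.map_sup, hJ, bot_sup_eq, Ideal.map_span, Set.image_singleton] at h3
    exact h3
  haveI : Module.Free C (C ⊗[A] Γ(F, W.1)) := hfree W hW e C hJ hu
  let N : Type u := F.presheaf.stalk (g' x')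
  letI : Algebra B (X.presheaf.stalk (g' x')) := (X.presheaf.germ W.1 (g' x') hxW).hom.toAlgebra
  letI : Module B N := Module.compHom N (X.presheaf.germ W.1 (g' x') hxW).hom
  letI : Module A N := Module.compHom N ((f.appLE U.1 W.1 e) ≫ X.presheaf.germ W.1 (g' x') hxW).hom
  haveI : IsScalarTower A B N := IsScalarTower.of_algebraMap_smul fun _ _ => rfl
  obtain ⟨φ, hφ⟩ := LocFree.exists_stalkMap W.2 hq hxW
  haveI := hφ
  exact flat_tensor_localized (A := A) (B := B) (C := C) (W.2.primeIdealOf ⟨g' x', hxW⟩).asIdeal.primeCompl φ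

/-- Extension of a finitely generated ideal on an affine open to a finite type ideal. -/
theorem exists_fg_extend [CompactSpace S] [QuasiSeparatedSpace S] (U : S.affineOpens) (J : Ideal Γ(S, U.1))
    (hJ : J.FG) : ∃ L : S.IdealSheafData, (∀ V, (L.ideal V).FG) ∧ L.ideal U = J := by
  classical
  obtain ⟨T, hT⟩ := hJ
  let F := Coh.structureModule S
  haveI : F.IsQuasicoherent := QC.isQCoh_unit S
  let T' : Finset Γ(F, U.1) := T
  have hgen : QC.LocFinGen (QC.genSub (F := F) (T' : Set Γ(F, U.1))) U.1 := fun x hx =>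
    ⟨U.1, U.2, hx, le_rfl, T', ⟨fun t ht => QC.mem_genSub_of_mem ht, fun _ _ => le_rfl⟩⟩
  obtain ⟨S', hS', hS'U⟩ := QC.exists_extend_qcqs _ hgen U.2.isCompact
  obtain ⟨hqc, hft⟩ := QC.Sub.isCoh_toModules hS'
  haveI : S'.toModules.IsQuasicoherent := hqc
  refine ⟨QC.idealSheafOf S'.ι, fun V => ?_, ?_⟩
  · haveI := QC.finite_sections V.2 (M := S'.toModules) hft
    have : QC.idealOf S'.ι V.1 = LinearMap.range
        ({ toFun := fun a => (S'.ι.app V.1 a : Γ(S, V.1))
           map_add' := fun a b => map_add _ a b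
           map_smul' := fun c a => Scheme.Modules.Hom.app_smul _ _ _ } :
          Γ(S'.toModules, V.1) →ₗ[Γ(S, V.1)] Γ(S, V.1)) := rfl
    show (QC.idealOf S'.ι V.1).FG
    rw [this]
    exact Submodule.fg_range _
  · rw [← hT]
    refine Submodule.ext fun c => (S'.range_ι_app U.1 c).trans ?_
    rw [hS'U U.1 le_rfl, QC.mem_genSub_iff U.2 le_rfl]
    have : QC.res F (le_refl U.1) '' (T' : Set Γ(F, U.1)) = (T' : Set Γ(F, U.1)) :=
      (Set.image_congr fun t _ => QC.res_self _ _ _).trans (Set.image_id' _)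
    rw [this]

end Groth.Agent.FlatModBC
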