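import Mathlib
import Groth.Agent.FlatModBC.StratFlat

/-!
# Flatness of base changes read on sections
-/

universe u

set_option autoImplicit false
set_option linter.style.haveILetI false
set_option backward.isDefEq.respectTransparency false

open CategoryTheory CategoryTheory.Limits AlgebraicGeometry TopologicalSpace TensorProduct

namespace Groth.Agent.FlatModBC

variable {X S X' S' : Scheme.{u}} {f : X ⟶ S} {f' : X' ⟶ S'} {g' : X' ⟶ X} {g : S' ⟶ S}

/-- Flatness of the base changed sheaf gives flatness of the base changed module of sections. -/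
theorem flat_tensor_sections (hc : IsPullback g' f' f g) (F : X.Modules) [hq : Coh.IsQCoh F]
    {V : S.Opens} (hV : IsAffineOpen V) {W : X.Opens} (hW : IsAffineOpen W) (e : W ≤ f ⁻¹ᵁ V)
    {O : S'.Opens} (hO : IsAffineOpen O) (eO : O ≤ g ⁻¹ᵁ V)
    (h : FlatMod.IsFlatOver f' ((Scheme.Modules.pullback g').obj F)) :
    letI : Algebra Γ(S, V) Γ(S', O) := (g.appLE V O eO).hom.toAlgebra
    letI : Module Γ(S, V) Γ(F, W) := Module.compHom Γ(F, W) (f.appLE V W e).hom
    Module.Flat Γ(S', O) (Γ(S', O) ⊗[Γ(S, V)] Γ(F, W)) := by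
  let A := Γ(S, V)
  let B := Γ(X, W)
  let C := Γ(S', O)
  let W' : X'.Opens := g' ⁻¹ᵁ W ⊓ f' ⁻¹ᵁ O
  have hW' : IsAffineOpen W' := by
    haveI : IsAffine _ := hV
    haveI : IsAffine _ := hW
    haveI : IsAffine _ := hO
    exact .of_isIso (Scheme.Hom.isPullback_resLE hc eO e (rfl : W' = _)).isoPullback.hom
  have hP := (isIso_pushoutSection_iff hc eO e (rfl : W' = _)).1
    (isIso_pushoutSection_of_isAffineOpen hc eO e rfl hV hO hW)
  let B' := Γ(X', W')
  let M : Type u := Γ(F, W)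
  letI : Algebra A B := (f.appLE V W e).hom.toAlgebra
  letI : Algebra A C := (g.appLE V O eO).hom.toAlgebra
  letI : Algebra B B' := (g'.appLE W W' inf_le_left).hom.toAlgebra
  letI : Algebra C B' := (f'.appLE O W' inf_le_right).hom.toAlgebra
  letI : Algebra A B' := ((algebraMap B B').comp (algebraMap A B)).toAlgebra
  haveI : IsScalarTower A B B' := IsScalarTower.of_algebraMap_eq fun _ => rfl
  haveI : IsScalarTower A C B' := IsScalarTower.of_algebraMap_eq fun a => congr($(hP.w).hom a)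
  haveI : Algebra.IsPushout A B C B' := CommRingCat.isPushout_iff_isPushout.1 hP
  haveI : Algebra.IsPushout A C B B' := Algebra.IsPushout.symm inferInstance
  letI : Module A M := Module.compHom Γ(F, W) (f.appLE V W e).hom
  haveI : IsScalarTower A B M := IsScalarTower.of_algebraMap_smul fun _ _ => rfl
  haveI : SMulCommClass B C B' := ⟨fun b c x => by
    rw [Algebra.smul_def b, Algebra.smul_def c, Algebra.smul_def c, Algebra.smul_def b]; ring⟩
  suffices Module.Flat C (B' ⊗[B] M) from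
    Module.Flat.of_linearEquiv (Algebra.IsPushout.cancelBaseChange A C B B' M).symm
  refine Module.flat_of_isLocalized_maximal B' (B' ⊗[B] M)
    (fun Q _ => LocalizedModule Q.primeCompl (B' ⊗[B] M))
    (fun Q _ => LocalizedModule.mkLinearMap Q.primeCompl (B' ⊗[B] M)) fun Q _ => ?_
  let q : PrimeSpectrum B' := ⟨Q, inferInstance⟩
  obtain ⟨hx', hq'⟩ := InjFibre.primeIdealOf_fromSpec hW' q
  set x' : X' := hW'.fromSpec q with hx'def
  let R := X.presheaf.stalk (g' x')
  let L := X'.presheaf.stalk x'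
  let N : Type u := F.presheaf.stalk (g' x')
  have hxW : g' x' ∈ W := hx'.1
  have hxO : f' x' ∈ O := hx'.2
  letI : Algebra B R := (X.presheaf.germ W (g' x') hxW).hom.toAlgebra
  haveI : IsLocalization.AtPrime R (hW.primeIdealOf ⟨g' x', hxW⟩).asIdeal := hW.isLocalization_stalk ⟨_, hxW⟩
  letI : Algebra B' L := (X'.presheaf.germ W' x' hx').hom.toAlgebra
  have hloc : IsLocalization.AtPrime L Q := by
    have h := hW'.isLocalization_stalk ⟨x', hx'⟩
    rw [hq'] at h
    exact h
  letI : Algebra R L := (g'.stalkMap x').hom.toAlgebra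
  letI : Algebra B L := ((algebraMap B' L).comp (algebraMap B B')).toAlgebra
  haveI : IsScalarTower B B' L := IsScalarTower.of_algebraMap_eq fun _ => rfl
  haveI : IsScalarTower B R L := IsScalarTower.of_algebraMap_eq fun b =>
    (FibCrit.germ_comm g' W W' inf_le_left x' hx' b).symm
  letI : Algebra C L := ((algebraMap B' L).comp (algebraMap C B')).toAlgebra
  haveI : IsScalarTower C B' L := IsScalarTower.of_algebraMap_eq fun _ => rfl
  letI : Module B N := Module.compHom N (X.presheaf.germ W (g' x') hxW).hom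
  haveI : IsScalarTower B R N := IsScalarTower.of_algebraMap_smul fun _ _ => rfl
  obtain ⟨φ, hφ⟩ := LocFree.exists_stalkMap hW hq hxW
  haveI := hφ
  let eN : R ⊗[B] M ≃ₗ[R] N :=
    (IsLocalizedModule.isBaseChange (hW.primeIdealOf ⟨g' x', hxW⟩).asIdeal.primeCompl R φ).equiv
  let eP : ((Scheme.Modules.pullback g').obj F).presheaf.stalk x' ≃ₗ[L] L ⊗[R] N :=
    ((KFlat.pullStalkIso g' x').app F).toLinearEquiv
  let eL : L ⊗[R] N ≃ₗ[L] L ⊗[B'] (B' ⊗[B] M) :=
    (AlgebraTensorModule.congr (LinearEquiv.refl L L) eN.symm).trans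
      ((AlgebraTensorModule.cancelBaseChange B R L L M).trans
        (AlgebraTensorModule.cancelBaseChange B B' L L M).symm)
  let eQ : LocalizedModule Q.primeCompl (B' ⊗[B] M) ≃ₗ[B'] L ⊗[B'] (B' ⊗[B] M) :=
    IsLocalizedModule.iso Q.primeCompl (TensorProduct.mk B' L (B' ⊗[B] M) 1)
  have hflat : Module.Flat C (L ⊗[B'] (B' ⊗[B] M)) := by
    have h1 := h x'
    rw [FlatModB.isFlatOverAt_iff f' _ x' hO hxO] at h1
    letI := FlatModB.stalkModule f' ((Scheme.Modules.pullback g').obj F) x' O hxO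
    haveI : IsScalarTower C L (((Scheme.Modules.pullback g').obj F).presheaf.stalk x') :=
      IsScalarTower.of_algebraMap_smul fun c m => by
        show ((X'.presheaf.germ W' x' hx').hom ((f'.appLE O W' inf_le_right).hom c)) • m = _
        rw [← FibCrit.germ_comm f' O W' inf_le_right x' hx' c]
        rfl
    exact Module.Flat.of_linearEquiv ((eP.trans eL).restrictScalars C).symm
  exact Module.Flat.of_linearEquiv (eQ.restrictScalars C)

/-- Flatness of a base change over an affine scheme, read on an affine cover. -/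
theorem isFlatOver_iff_forall_flat (hc : IsPullback g' f' f g) (F : X.Modules) [hq : Coh.IsQCoh F]
    {V : S.Opens} (hV : IsAffineOpen V) (Ws : Set X.affineOpens) (hWs : ∀ W ∈ Ws, W.1 ≤ f ⁻¹ᵁ V)
    (hcov : ∀ x, f x ∈ V → ∃ W ∈ Ws, x ∈ W.1) [IsAffine S'] (eO : (⊤ : S'.Opens) ≤ g ⁻¹ᵁ V) :
    letI : Algebra Γ(S, V) Γ(S', ⊤) := (g.appLE V ⊤ eO).hom.toAlgebra
    FlatMod.IsFlatOver f' ((Scheme.Modules.pullback g').obj F) ↔
      ∀ W : Ws, letI : Module Γ(S, V) Γ(F, W.1.1) := Module.compHom Γ(F, W.1.1) (f.appLE V W.1.1 (hWs W.1 W.2)).hom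
        Module.Flat Γ(S', ⊤) (Γ(S', ⊤) ⊗[Γ(S, V)] Γ(F, W.1.1)) := by
  letI : Algebra Γ(S, V) Γ(S', ⊤) := (g.appLE V ⊤ eO).hom.toAlgebra
  refine ⟨fun h W => flat_tensor_sections hc F hV W.1.2 _ (isAffineOpen_top S') eO h, fun h x' => ?_⟩
  obtain ⟨W, hW, hxW⟩ := hcov (g' x') (by
    rw [← Scheme.Hom.comp_apply, hc.w, Scheme.Hom.comp_apply]
    exact eO (trivial : f' x' ∈ (⊤ : S'.Opens)))
  refine isFlatOverAt_of_flat_tensor hc F x' hV W.2 (hWs W hW) (isAffineOpen_top S') eO hxW trivial ?_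
  let A := Γ(S, V)
  let B := Γ(X, W.1)
  let N : Type u := F.presheaf.stalk (g' x')
  letI : Algebra A B := (f.appLE V W.1 (hWs W hW)).hom.toAlgebra
  letI : Module A Γ(F, W.1) := Module.compHom Γ(F, W.1) (f.appLE V W.1 (hWs W hW)).hom
  haveI : IsScalarTower A B Γ(F, W.1) := IsScalarTower.of_algebraMap_smul fun _ _ => rfl
  haveI : Module.Flat Γ(S', ⊤) (Γ(S', ⊤) ⊗[A] Γ(F, W.1)) := h ⟨W, hW⟩
  letI : Module B N := Module.compHom N (X.presheaf.germ W.1 (g' x') hxW).hom
  letI : Module A N := Module.compHom N ((f.appLE V W.1 (hWs W hW)) ≫ X.presheaf.germ W.1 (g' x') hxW).hom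
  haveI : IsScalarTower A B N := IsScalarTower.of_algebraMap_smul fun _ _ => rfl
  obtain ⟨φ, hφ⟩ := LocFree.exists_stalkMap W.2 hq hxW
  haveI := hφ
  exact flat_tensor_localized (A := A) (B := B) (W.2.primeIdealOf ⟨g' x', hxW⟩).asIdeal.primeCompl φ

end Groth.Agent.FlatModBC
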