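import Mathlib
import Groth.Agent.FlatModBC.StratRing

/-!
# Flattening ideals of finitely many modules near the generic point
-/

universe u

set_option autoImplicit false
set_option linter.style.haveILetI false
set_option backward.isDefEq.respectTransparency false

open TensorProduct MvPolynomial

namespace Groth.Agent.FlatModBC

/-- Over a ring with irreducible spectrum, finitely many finitely presented modules have, after
inverting some non-nilpotent element, a finitely generated flattening ideal inside the nilradical. -/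
theorem exists_flattening {A : Type u} [CommRing A] [IrreducibleSpace (PrimeSpectrum A)] {ι : Type} [Finite ι]
    (S : ι → Type u) [∀ k, CommRing (S k)] [∀ k, Algebra A (S k)] [∀ k, Algebra.FinitePresentation A (S k)]
    (M : ι → Type u) [∀ k, AddCommGroup (M k)] [∀ k, Module (S k) (M k)] [∀ k, Module A (M k)]
    [∀ k, IsScalarTower A (S k) (M k)] [∀ k, Module.FinitePresentation (S k) (M k)] :
    ∃ h : A, ¬ IsNilpotent h ∧ ∃ J : Ideal (Localization.Away h), J.FG ∧ J ≤ nilradical (Localization.Away h) ∧
      ∀ (C : Type u) [CommRing C] [Algebra A C] [Algebra (Localization.Away h) C]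
        [IsScalarTower A (Localization.Away h) C],
        (∀ k, Module.Flat C (C ⊗[A] M k)) ↔ J.map (algebraMap (Localization.Away h) C) = ⊥ := by
  classical
  choose n m π hπ hπfg W hW e using fun k => FlatSpread.exists_presentation (R := A) (S := S k) (M := M k)
  choose s hs using fun k => hW k
  obtain ⟨R, _, _, _, W₀, hinj, hW₀⟩ := exists_model_family n m s
  let N₀ : ι → Type u := fun k => (Fin (m k) → MvPolynomial (Fin (n k)) R) ⧸ W₀ k
  have eA : ∀ k, Nonempty (A ⊗[R] N₀ k ≃ₗ[A] M k) := fun k => by
    obtain ⟨e₁⟩ := hW₀ k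
    obtain ⟨e₂⟩ := e k
    letI : Module (MvPolynomial (Fin (n k)) A) (M k) := Module.compHom (M k) (π k).toRingHom
    haveI : IsScalarTower A (MvPolynomial (Fin (n k)) A) (M k) := ⟨fun r t x => by
      show π k (r • t) • x = r • (π k t • x)
      rw [map_smul, smul_assoc]⟩
    exact ⟨e₁.trans (((Submodule.quotEquivOfEq _ _ (hs k)).trans e₂).restrictScalars A)⟩
  let p : Ideal R := nilradical R
  haveI : (nilradical A).IsPrime := PrimeSpectrum.irreducibleSpace_iff_isPrime_nilradical.1 inferInstance
  have hp : p = (nilradical A).comap (algebraMap R A) := by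
    ext a
    rw [Ideal.mem_comap, mem_nilradical, mem_nilradical]
    exact (IsNilpotent.map_iff hinj).symm
  have hptop : p ≠ ⊤ := by rw [hp]; exact Ideal.IsPrime.ne_top inferInstance
  obtain ⟨h₀, hh₀, hfree⟩ := exists_freeOn_notMem n m W₀ (Ideal.radical_isRadical (⊥ : Ideal R)) hptop
  let L := Localization.Away h₀
  let Nil : Ideal L := p.map (algebraMap R L)
  have hNil : IsNilpotent Nil := by
    obtain ⟨k, hk⟩ := IsNoetherianRing.isNilpotent_nilradical R
    exact ⟨k, by rw [← Ideal.map_pow, hk]; exact Ideal.map_bot⟩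
  have hu : IsUnit ((algebraMap R (L ⧸ Nil) : R →+* L ⧸ Nil) h₀) := by
    rw [IsScalarTower.algebraMap_apply R L (L ⧸ Nil)]
    exact (IsLocalization.Away.algebraMap_isUnit h₀).map _
  have hfreeL : ∀ k, Module.Free (L ⧸ Nil) ((L ⧸ Nil) ⊗[L] (L ⊗[R] N₀ k)) := fun k => by
    haveI := hfree k (L ⧸ Nil) (by
      rw [IsScalarTower.algebraMap_eq R L (L ⧸ Nil), ← Ideal.map_map]
      exact Ideal.map_quotient_self Nil) hu
    exact Module.Free.of_equiv (AlgebraTensorModule.cancelBaseChange R L (L ⧸ Nil) (L ⧸ Nil) (N₀ k)).symm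
  choose R₀ hleast _ hR₀ using fun k => S4853.result (L ⊗[R] N₀ k) Nil hNil (hfreeL k)
  let h : A := algebraMap R A h₀
  refine ⟨h, fun hh => hh₀ ((IsNilpotent.map_iff hinj).1 hh), ?_⟩
  let Ah := Localization.Away h
  have hunit : IsUnit (algebraMap R Ah h₀) := by
    rw [IsScalarTower.algebraMap_apply R A Ah]
    exact IsLocalization.Away.algebraMap_isUnit h
  let φ : L →+* Ah := IsLocalization.Away.lift (S := L) h₀ hunit
  refine ⟨(⨆ k, R₀ k).map φ, Ideal.FG.map (IsNoetherian.noetherian _) _, ?_, ?_⟩
  · rw [Ideal.map_iSup, iSup_le_iff]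
    intro k
    refine (Ideal.map_mono ((hleast k).2 (hfreeL k))).trans ?_
    obtain ⟨c, hc⟩ := hNil
    intro x hx
    refine mem_nilradical.2 ⟨c, ?_⟩
    have := Ideal.pow_mem_pow hx c
    rw [← Ideal.map_pow, hc] at this
    rw [← Ideal.mem_bot]
    exact Ideal.map_bot.le this
  · intro C _ _ _ _
    letI : Algebra R C := ((algebraMap A C).comp (algebraMap R A)).toAlgebra
    haveI : IsScalarTower R A C := IsScalarTower.of_algebraMap_eq fun _ => rfl
    letI : Algebra L C := ((algebraMap Ah C).comp φ).toAlgebra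
    haveI : IsScalarTower R L C := IsScalarTower.of_algebraMap_eq fun r => by
      show algebraMap A C (algebraMap R A r) = algebraMap Ah C (φ (algebraMap R L r))
      rw [IsLocalization.Away.lift_eq, IsScalarTower.algebraMap_apply A Ah C, ← IsScalarTower.algebraMap_apply R A Ah]
    rw [Ideal.map_map, Ideal.map_iSup, iSup_eq_bot]
    refine forall_congr' fun k => ?_
    rw [← RingHom.algebraMap_toAlgebra ((algebraMap Ah C).comp φ), ← (hR₀ k C).2]
    obtain ⟨e⟩ := eA k
    let ek : C ⊗[L] (L ⊗[R] N₀ k) ≃ₗ[C] C ⊗[A] M k :=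
      (AlgebraTensorModule.cancelBaseChange R L C C (N₀ k)).trans
        ((AlgebraTensorModule.cancelBaseChange R A C C (N₀ k)).symm.trans (LinearEquiv.baseChange A C _ _ e))
    exact ⟨fun h => Module.Flat.of_linearEquiv ek, fun h => Module.Flat.of_linearEquiv ek.symm⟩

end Groth.Agent.FlatModBC
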